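import Cfsg.Agent.Lib.Schur.Coxeter.Count

/-!
# The Clifford double cover of a simply-laced Coxeter group

Over the field with three elements the Cartan matrix gives a quadratic form whose Clifford algebra contains
unit vectors `eᵢ` which square to one, braid along the edges and anticommute otherwise.  Pairing them with
generators of a quotient of the Coxeter group gives twisted Coxeter generators with a non-trivial sign, and
the even words in them form a perfect group.
-/

set_option autoImplicit false

open scoped commutatorElement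

namespace CfsgLib.Schur.Cox

universe u v

variable {n : ℕ} (M : CoxeterMatrix (Fin n))

/-- Upper triangular matrix whose symmetrisation is the Cartan matrix modulo three. -/
def upper : Matrix (Fin n) (Fin n) (ZMod 3) :=
  Matrix.of fun i j => if i = j then 1 else if i < j ∧ M i j = 3 then -1 else 0

/-- The quadratic form of the Cartan matrix modulo three. -/
noncomputable def cartanForm : QuadraticForm (ZMod 3) (Fin n → ZMod 3) :=
  LinearMap.BilinMap.toQuadraticMap (Matrix.toBilin' (upper M))

/-- The `i`-th basis vector in the Clifford algebra. -/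
noncomputable def vec (i : Fin n) : CliffordAlgebra (cartanForm M) :=
  CliffordAlgebra.ι (cartanForm M) (Pi.single i 1)

theorem vec_sq (i : Fin n) : vec M i * vec M i = 1 := by
  have : cartanForm M (Pi.single i 1) = 1 := by
    rw [cartanForm, LinearMap.BilinMap.toQuadraticMap_apply, Matrix.toBilin'_single]
    simp [upper]
  rw [vec, CliffordAlgebra.ι_sq_scalar, this, map_one]

theorem vec_add_swap {i j : Fin n} (hij : i ≠ j) :
    vec M i * vec M j + vec M j * vec M i = if M i j = 3 then -1 else 0 := by
  have : QuadraticMap.polar (cartanForm M) (Pi.single i 1) (Pi.single j 1) =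
      if M i j = 3 then -1 else 0 := by
    rw [cartanForm, LinearMap.BilinMap.polar_toQuadraticMap, Matrix.toBilin'_single, Matrix.toBilin'_single]
    simp only [upper, Matrix.of_apply, if_neg hij, if_neg hij.symm, M.symmetric j i]
    rcases lt_or_gt_of_ne hij with h | h
    · simp [h, h.not_gt]
    · simp [h, h.not_gt]
  rw [vec, vec, CliffordAlgebra.ι_mul_ι_add_swap, this]
  split <;> simp

/-- The basis vectors as units. -/
noncomputable def gen (i : Fin n) : (CliffordAlgebra (cartanForm M))ˣ := ⟨vec M i, vec M i, vec_sq M i, vec_sq M i⟩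

theorem gen_sq (i : Fin n) : gen M i * gen M i = 1 := Units.ext (vec_sq M i)

theorem ne_of_three {i j : Fin n} (h : M i j = 3) : i ≠ j := by
  rintro rfl
  rw [M.diagonal] at h
  omega

theorem ne_of_two {i j : Fin n} (h : M i j = 2) : i ≠ j := by
  rintro rfl
  rw [M.diagonal] at h
  omega

theorem gen_braid {i j : Fin n} (h : M i j = 3) : gen M i * gen M j * gen M i = gen M j * gen M i * gen M j := by
  refine Units.ext ?_
  have e := vec_add_swap M (ne_of_three M h)
  rw [if_pos h] at e
  show vec M i * vec M j * vec M i = vec M j * vec M i * vec M j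
  have e' : vec M j * vec M i = -1 - vec M i * vec M j := eq_sub_of_add_eq' e
  have hi := vec_sq M i
  have hj := vec_sq M j
  calc vec M i * vec M j * vec M i = vec M i * (vec M j * vec M i) := mul_assoc _ _ _
    _ = vec M i * (-1 - vec M i * vec M j) := by rw [e']
    _ = -vec M i - vec M i * vec M i * vec M j := by noncomm_ring
    _ = -vec M i - vec M j := by rw [hi, one_mul]
    _ = -vec M j - vec M i * (vec M j * vec M j) := by rw [hj, mul_one]; abel
    _ = (-1 - vec M i * vec M j) * vec M j := by noncomm_ring
    _ = vec M j * vec M i * vec M j := by rw [← e']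

theorem gen_comm {i j : Fin n} (h : M i j = 2) : gen M i * gen M j = -1 * (gen M j * gen M i) := by
  refine Units.ext ?_
  have e := vec_add_swap M (ne_of_two M h)
  rw [if_neg (by omega)] at e
  show vec M i * vec M j = -1 * (vec M j * vec M i)
  rw [neg_one_mul, eq_neg_of_add_eq_zero_left e]

theorem neg_one_ne_one : (-1 : (CliffordAlgebra (cartanForm M))ˣ) ≠ 1 := by
  intro h
  have : Invertible (2 : ZMod 3) := invertibleOfNonzero (by decide)
  have h' := congrArg (CliffordAlgebra.equivExterior (cartanForm M)) (congrArg Units.val h)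
  rw [Units.val_neg, Units.val_one, map_neg] at h'
  have h1 : CliffordAlgebra.equivExterior (cartanForm M) 1 = 1 := by
    simp only [CliffordAlgebra.equivExterior, CliffordAlgebra.changeFormEquiv]
    exact CliffordAlgebra.changeForm_one (h := CliffordAlgebra.changeForm.associated_neg_proof)
  rw [h1, ← map_one (algebraMap (ZMod 3) (ExteriorAlgebra (ZMod 3) (Fin n → ZMod 3))), ← map_neg,
    ExteriorAlgebra.algebraMap_inj] at h'
  exact absurd h' (by decide)

theorem neg_one_comm (x : (CliffordAlgebra (cartanForm M))ˣ) : x * -1 = -1 * x := by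
  rw [mul_neg_one, neg_one_mul]

variable {M}

/-- Pairing with Clifford units gives twisted generators. -/
theorem twisted_pair {G : Type u} [Group G] {s : Fin n → G}
    (hM : ∀ i j, i ≠ j → M i j = 2 ∨ M i j = 3) (hs : ∀ i, s i * s i = 1)
    (hc : ∀ i j, M i j = 2 → s i * s j = s j * s i)
    (hb : ∀ i j, M i j = 3 → s i * s j * s i = s j * s i * s j) :
    Twisted M (fun i => (s i, gen M i)) 1 ((1 : G), (-1 : (CliffordAlgebra (cartanForm M))ˣ)) where
  laced := hM
  z_central := one_mem _
  eps_central := Subgroup.mem_center_iff.2 fun g => Prod.ext (by simp) (neg_one_comm M g.2)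
  sq i := Prod.ext (hs i) (gen_sq M i)
  braid i j h := Prod.ext (hb i j h) (gen_braid M h)
  comm i j h := Prod.ext (by simpa using hc i j h) (gen_comm M h)

/-! ### Even words -/

variable {E : Type u} [Group E]

/-- The subgroup of even words. -/
def evenSpan (t : Fin n → E) : Subgroup E :=
  Subgroup.closure (Set.range fun p : Fin n × Fin n => t p.1 * t p.2)

theorem mul_mem_evenSpan (t : Fin n → E) (i j : Fin n) : t i * t j ∈ evenSpan t :=
  Subgroup.subset_closure ⟨(i, j), rfl⟩

theorem evenSpan_le_closure (t : Fin n → E) : evenSpan t ≤ Subgroup.closure (Set.range t) := by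
  rw [evenSpan, Subgroup.closure_le]
  rintro _ ⟨p, rfl⟩
  exact mul_mem (Subgroup.subset_closure ⟨_, rfl⟩) (Subgroup.subset_closure ⟨_, rfl⟩)

theorem map_evenSpan {H : Type v} [Group H] (f : E →* H) (t : Fin n → E) :
    (evenSpan t).map f = evenSpan (f ∘ t) := by
  rw [evenSpan, evenSpan, MonoidHom.map_closure, ← Set.range_comp]
  congr 2
  funext p
  simp

theorem Twisted.eps_mem_evenSpan {t : Fin n → E} {ε : E} (h : Twisted M t 1 ε) {i j : Fin n}
    (hij : M i j = 2) : ε ∈ evenSpan t := by
  have hinv : ∀ k, (t k)⁻¹ = t k := fun k => inv_eq_of_mul_eq_one_right (h.sq k)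
  have : ε = t i * t j * (t i * t j) := by
    conv_rhs => arg 1; rw [h.comm i j hij]
    rw [mul_assoc, mul_assoc, ← mul_assoc (t i) (t i), h.sq, one_mul, h.sq, mul_one]
  rw [this]
  exact mul_mem (mul_mem_evenSpan t i j) (mul_mem_evenSpan t i j)

/-- Along an edge with a common non-neighbour, and hence everywhere, the even words are commutators. -/
theorem Twisted.evenSpan_perfect {t : Fin n → E} {ε : E} (h : Twisted M t 1 ε) (hε : ε * ε = 1)
    (hedge : ∀ a b, M a b = 3 → ∃ l, M a l = 2 ∧ M b l = 2) (root : Fin n) (par : Fin n → Fin n)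
    (hpar : ∀ i, par^[n] i = root) (hadj : ∀ i, par i = i ∨ M i (par i) = 3) :
    ⁅evenSpan t, evenSpan t⁆ = evenSpan t := by
  refine le_antisymm (Subgroup.commutator_le.2 fun a ha b hb => ?_) ?_
  · exact mul_mem (mul_mem (mul_mem ha hb) (inv_mem ha)) (inv_mem hb)
  have hinv : ∀ k, (t k)⁻¹ = t k := fun k => inv_eq_of_mul_eq_one_right (h.sq k)
  have hεc := Subgroup.mem_center_iff.1 h.eps_central
  have hedge' : ∀ a b, M a b = 3 → t a * t b ∈ ⁅evenSpan t, evenSpan t⁆ := by
    intro a b hab
    obtain ⟨l, hal, hbl⟩ := hedge a b hab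
    have hlb : t l * t b = ε * (t b * t l) := h.comm l b (by rw [M.symmetric]; exact hbl)
    have hla : t l * t a = ε * (t a * t l) := h.comm l a (by rw [M.symmetric]; exact hal)
    have h1 : t a * t l * (t b * t l) = ε * (t a * t b) := by
      calc t a * t l * (t b * t l) = t a * (t l * t b) * t l := by group
        _ = (t a * ε) * (t b * t l) * t l := by rw [hlb]; group
        _ = (ε * t a) * (t b * (t l * t l)) := by rw [hεc (t a)]; group
        _ = _ := by rw [h.sq, mul_one, mul_assoc]
    have h2 : t l * t a * (t l * t b) = ε * (t a * t b) := by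
      calc t l * t a * (t l * t b) = ε * (t a * t l) * (t l * t b) := by rw [hla]
        _ = ε * t a * (t l * t l) * t b := by group
        _ = _ := by rw [h.sq, mul_one, mul_assoc]
    have h3 : ⁅t a * t l, t b * t l⁆ = (t a * t b) ^ 2 := by
      rw [commutatorElement_def, mul_inv_rev, mul_inv_rev, hinv, hinv, hinv,
        mul_assoc (t a * t l * (t b * t l)), h1, h2, mul_assoc ε (t a * t b),
        ← mul_assoc (t a * t b) ε, hεc (t a * t b), mul_assoc ε (t a * t b), ← mul_assoc ε ε, hε,
        one_mul, pow_two]
    have h4 : (t a * t b) ^ 3 = 1 := by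
      rw [cube_of_braid h.z_central (h.sq a) (h.sq b) (h.braid a b hab), one_pow]
    have h5 : t a * t b = ⁅t a * t l, t b * t l⁆ ^ 2 := by
      rw [h3, ← pow_mul, show 2 * 2 = 3 + 1 by norm_num, pow_add, h4, one_mul, pow_one]
    rw [h5]
    exact pow_mem (Subgroup.commutator_mem_commutator (mul_mem_evenSpan t a l) (mul_mem_evenSpan t b l)) 2
  have htrans : ∀ a b c, t a * t b ∈ ⁅evenSpan t, evenSpan t⁆ → t b * t c ∈ ⁅evenSpan t, evenSpan t⁆ →
      t a * t c ∈ ⁅evenSpan t, evenSpan t⁆ := by
    intro a b c h1 h2
    have := mul_mem h1 h2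
    rwa [mul_assoc, ← mul_assoc (t b), h.sq, one_mul] at this
  have hroot : ∀ (k : ℕ) i, t i * t (par^[k] i) ∈ ⁅evenSpan t, evenSpan t⁆ := by
    intro k
    induction k with
    | zero => intro i; rw [Function.iterate_zero, id, h.sq]; exact one_mem _
    | succ k ih =>
      intro i
      rw [Function.iterate_succ, Function.comp_apply]
      refine htrans _ (par i) _ ?_ (ih (par i))
      rcases hadj i with e | e
      · rw [e, h.sq]; exact one_mem _
      · exact hedge' i (par i) e
  conv_lhs => rw [evenSpan]
  rw [Subgroup.closure_le]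
  rintro _ ⟨p, rfl⟩
  refine htrans p.1 root p.2 (hpar p.1 ▸ hroot n p.1) ?_
  have := inv_mem (hpar p.2 ▸ hroot n p.2)
  rwa [mul_inv_rev, hinv, hinv] at this

/-- If involutions generate, the even words contain all commutators. -/
theorem commutator_le_evenSpan {s : Fin n → E} (root : Fin n) (hs : Subgroup.closure (Set.range s) = ⊤)
    (h2 : ∀ i, s i * s i = 1) : commutator E ≤ evenSpan s := by
  have hinv : ∀ k, (s k)⁻¹ = s k := fun k => inv_eq_of_mul_eq_one_right (h2 k)
  have hn : (evenSpan s).Normal := by
    rw [← Subgroup.normalizer_eq_top_iff, eq_top_iff, ← hs, Subgroup.closure_le]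
    rintro _ ⟨c, rfl⟩
    rw [SetLike.mem_coe, Subgroup.mem_normalizer_iff]
    have key : ∀ g ∈ evenSpan s, s c * g * (s c)⁻¹ ∈ evenSpan s := by
      intro g hg
      induction hg using Subgroup.closure_induction with
      | mem x hx =>
        obtain ⟨p, rfl⟩ := hx
        have := mul_mem (mul_mem_evenSpan s c p.1) (mul_mem_evenSpan s p.2 c)
        rwa [hinv, ← mul_assoc, mul_assoc (s c * s p.1) (s p.2) (s c), ← mul_assoc] at *
      | one => simp
      | mul x y _ _ hx hy =>
        have := mul_mem hx hy
        rwa [show s c * x * (s c)⁻¹ * (s c * y * (s c)⁻¹) = s c * (x * y) * (s c)⁻¹ by group] at this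
      | inv x _ hx =>
        have := inv_mem hx
        rwa [show (s c * x * (s c)⁻¹)⁻¹ = s c * x⁻¹ * (s c)⁻¹ by group] at this
    intro g
    refine ⟨key g, fun hg => ?_⟩
    have := key _ hg
    rwa [hinv, show s c * (s c * g * s c) * s c = s c * s c * g * (s c * s c) by group, h2, one_mul,
      mul_one] at this
  let π : E →* E ⧸ evenSpan s := QuotientGroup.mk' _
  have hall : ∀ x : E, π x ∈ Subgroup.zpowers (π (s root)) := by
    intro x
    have hx : x ∈ Subgroup.closure (Set.range s) := hs ▸ Subgroup.mem_top x
    induction hx using Subgroup.closure_induction with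
    | mem x hx =>
      obtain ⟨i, rfl⟩ := hx
      have : π (s i * s root) = 1 := (QuotientGroup.eq_one_iff _).2 (mul_mem_evenSpan s i root)
      rw [map_mul, mul_eq_one_iff_eq_inv, ← map_inv, hinv] at this
      rw [this]
      exact Subgroup.mem_zpowers _
    | one => rw [map_one]; exact one_mem _
    | mul x y _ _ hx hy => rw [map_mul]; exact mul_mem hx hy
    | inv x _ hx => rw [map_inv]; exact inv_mem hx
  rw [commutator_def, Subgroup.commutator_le]
  intro x _ y _
  refine (QuotientGroup.eq_one_iff _).1 ?_
  show π ⁅x, y⁆ = 1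
  obtain ⟨a, ha⟩ := hall x
  obtain ⟨b, hb⟩ := hall y
  rw [map_commutatorElement, commutatorElement_eq_one_iff_mul_comm, ← ha, ← hb]
  exact (Commute.zpow_zpow (Commute.refl _) a b).eq

end CfsgLib.Schur.Cox
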