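import Cfsg.Agent.Lib.Schur.Coxeter.Moves
import Cfsg.Agent.Lib.Schur.Coxeter.Witness
import Cfsg.Agent.Lib.Schur.Multiplier
import Cfsg.Agent.Lib.Classical.Symplectic.MatrixTransvection
import Cfsg.Agent.S1093

/-!
# The Schur multiplier of `Sp₆(2)`

`Sp₆(2)` is a quotient of `W(E₇)`: seven transvections satisfy the Coxeter relations.
-/

set_option autoImplicit false

open scoped commutatorElement

namespace CfsgLib.Schur.Cox.SpSix

/-- `Sp₆(2)` -/
abbrev Grp : Type := Matrix.symplecticGroup (Fin 3) (ZMod 2)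

/-- vectors by binary code -/
def vec6 (m : ℕ) : Fin 3 ⊕ Fin 3 → ZMod 2 :=
  Sum.elim (fun k => ((m / 2 ^ k.val % 2 : ℕ) : ZMod 2)) (fun k => ((m / 2 ^ (k.val + 3) % 2 : ℕ) : ZMod 2))

/-- the transvection of a vector -/
def tvec (m : ℕ) : Grp :=
  ⟨Cfsg.sympTransvection 3 (vec6 m) 1, CfsgLib.Classical.Symp.sympTransvection_mem _ _⟩

/-- the seven generating transvections -/
def s (i : Fin 7) : Grp := tvec (![32, 16, 4, 34, 24, 1, 8] i)

/-- conjugation steps reaching every transvection -/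
def steps : List (Fin 7 × ℕ × ℕ) := [(2, 32, 36), (3, 16, 50), (3, 4, 38), (4, 34, 58), (5, 24, 25), (6, 1, 9), (3, 36, 6), (2, 50, 54), (4, 50, 42), (4, 38, 62), (5, 58, 59), (6, 25, 17), (1, 6, 22), (4, 6, 30), (4, 54, 46), (5, 42, 43), (5, 62, 63), (6, 59, 51), (4, 22, 14), (5, 30, 31), (3, 46, 12), (5, 46, 47), (6, 43, 35), (6, 63, 55), (3, 14, 44), (5, 14, 15), (6, 31, 23), (5, 12, 13), (6, 47, 39), (2, 44, 40), (5, 44, 45), (6, 15, 7), (4, 13, 21), (6, 13, 5), (5, 40, 41), (4, 45, 53), (6, 45, 37), (6, 21, 29), (4, 41, 49), (6, 41, 33), (6, 53, 61), (5, 29, 28), (3, 49, 19), (6, 49, 57), (5, 61, 60), (1, 19, 3), (6, 19, 27), (5, 57, 56), (6, 3, 11), (5, 27, 26), (5, 11, 10), (4, 26, 2), (4, 10, 18), (3, 18, 48), (2, 48, 52), (0, 52, 20)]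

/-- checking the steps -/
def stepsOK : List ℕ → List (Fin 7 × ℕ × ℕ) → Bool
  | known, [] => (List.range 63).all fun m => known.contains (m + 1)
  | known, (i, w, x) :: r =>
    known.contains w && decide ((s i).1 * (tvec w).1 * (s i).1 = (tvec x).1) && stepsOK (x :: known) r

theorem stepsOK_true : stepsOK [32, 16, 4, 34, 24, 1, 8] steps = true := by decide +kernel

theorem mem_of_stepsOK : ∀ (L : List (Fin 7 × ℕ × ℕ)) (known : List ℕ), stepsOK known L = true →
    (∀ m ∈ known, tvec m ∈ Subgroup.closure (Set.range s)) →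
    ∀ m < 63, tvec (m + 1) ∈ Subgroup.closure (Set.range s)
  | [], known, h, hk => fun m hm => by
    rw [stepsOK, List.all_eq_true] at h
    exact hk _ (List.contains_iff_mem.1 (h m (List.mem_range.2 hm)))
  | (i, w, x) :: r, known, h, hk => by
    rw [stepsOK, Bool.and_eq_true, Bool.and_eq_true, decide_eq_true_iff, List.contains_iff_mem] at h
    obtain ⟨⟨hw, he⟩, hr⟩ := h
    refine mem_of_stepsOK r (x :: known) hr ?_
    intro m hm
    rcases List.mem_cons.1 hm with rfl | hm
    · rw [← show s i * tvec w * s i = tvec m from Subtype.ext he]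
      exact mul_mem (mul_mem (Subgroup.subset_closure ⟨i, rfl⟩) (hk w hw)) (Subgroup.subset_closure ⟨i, rfl⟩)
    · exact hk m hm

theorem vec6_cases : ∀ v : Fin 3 ⊕ Fin 3 → ZMod 2, v = 0 ∨ ∃ m : Fin 63, v = vec6 (m.val + 1) := by
  decide +kernel

theorem closure_s : Subgroup.closure (Set.range s) = ⊤ := by
  rw [eq_top_iff, ← CfsgLib.Classical.Symp.closure_sympTransvection_eq_top, Subgroup.closure_le]
  rintro A ⟨w, c, hA⟩
  have h1 : ∀ m < 63, tvec (m + 1) ∈ Subgroup.closure (Set.range s) := by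
    refine mem_of_stepsOK steps _ stepsOK_true ?_
    intro m hm
    simp only [List.mem_cons, List.not_mem_nil, or_false] at hm
    rcases hm with rfl | rfl | rfl | rfl | rfl | rfl | rfl
    exacts [Subgroup.subset_closure ⟨0, rfl⟩, Subgroup.subset_closure ⟨1, rfl⟩, Subgroup.subset_closure ⟨2, rfl⟩,
      Subgroup.subset_closure ⟨3, rfl⟩, Subgroup.subset_closure ⟨4, rfl⟩, Subgroup.subset_closure ⟨5, rfl⟩,
      Subgroup.subset_closure ⟨6, rfl⟩]
  have hone : (w = 0 ∨ c = 0) → A ∈ Subgroup.closure (Set.range s) := by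
    intro h
    have : A = 1 := Subtype.ext (by
      rw [hA]
      rcases h with h | h <;> ext a b <;> simp [h, Cfsg.sympTransvection, Matrix.vecMulVec_apply])
    rw [this]
    exact one_mem _
  rcases (by decide : ∀ x : ZMod 2, x = 0 ∨ x = 1) c with rfl | rfl
  · exact hone (Or.inr rfl)
  rcases vec6_cases w with rfl | ⟨m, rfl⟩
  · exact hone (Or.inl rfl)
  · rw [show A = tvec (m.val + 1) from Subtype.ext hA]
    exact h1 _ m.isLt

/-- the relations -/
theorem relations : ∀ i j : Fin 7, (s i).1 * (s i).1 = 1 ∧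
    (CoxeterMatrix.E₇ i j = 2 → (s i).1 * (s j).1 = (s j).1 * (s i).1) ∧
    (CoxeterMatrix.E₇ i j = 3 → (s i).1 * (s j).1 * (s i).1 = (s j).1 * (s i).1 * (s j).1) :=
  forall_pair (by decide +kernel)

theorem s_sq (i : Fin 7) : s i * s i = 1 := Subtype.ext (relations i i).1
theorem s_comm {i j : Fin 7} (h : CoxeterMatrix.E₇ i j = 2) : s i * s j = s j * s i :=
  Subtype.ext ((relations i j).2.1 h)
theorem s_braid {i j : Fin 7} (h : CoxeterMatrix.E₇ i j = 3) : s i * s j * s i = s j * s i * s j :=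
  Subtype.ext ((relations i j).2.2 h)

theorem s_not_comm : (s 0).1 * (s 2).1 ≠ (s 2).1 * (s 0).1 := by decide +kernel

theorem card_grp : Nat.card Grp = 1451520 := by
  have hc := CfsgLib.Classical.Symp.card_center_symplecticGroup (m := 3) (F := ZMod 2) (by norm_num)
  have hp := CfsgLib.Classical.Symp.gcd_mul_card_psp (m := 3) (F := ZMod 2) (by norm_num)
  rw [ZMod.card] at hc hp
  rw [Subgroup.card_eq_card_quotient_mul_card_subgroup (Subgroup.center Grp), hc]
  norm_num [Finset.prod_range_succ] at hp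
  norm_num [hp]

theorem center_eq_bot {F : Type*} [Field F] [Fintype F] (hF : Fintype.card F = 2) :
    Subgroup.center (Matrix.symplecticGroup (Fin 3) F) = ⊥ :=
  Subgroup.card_eq_one.1 (by
    rw [CfsgLib.Classical.Symp.card_center_symplecticGroup (by norm_num), hF]; norm_num)

theorem isSimpleGroup_grp : IsSimpleGroup Grp := by
  have := CfsgLib.Classical.Symp.isSimpleGroup_psp (m := 3) (F := ZMod 2) (by norm_num) (Or.inr (Or.inl le_rfl))
  exact ((QuotientGroup.quotientMulEquivOfEq (center_eq_bot (ZMod.card 2))).trans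
    QuotientGroup.quotientBot).symm.isSimpleGroup

theorem commutator_grp : commutator Grp = ⊤ := by
  have := isSimpleGroup_grp
  rcases (commutator_def Grp ▸ inferInstance : (commutator Grp).Normal).eq_bot_or_eq_top with h | h
  · exfalso
    rw [commutator_def, Subgroup.commutator_eq_bot_iff_le_centralizer, Subgroup.coe_top,
      Subgroup.centralizer_univ] at h
    exact s_not_comm (congrArg Subtype.val (Subgroup.mem_center_iff.1 (h (Subgroup.mem_top (s 2))) (s 0)))
  · exact h

/-- parents in the tree -/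
def par : Fin 7 → Fin 7 := ![0, 3, 0, 2, 3, 4, 5]

variable {H : Type*} [Group H] (ψ : Grp ≃* H)

include ψ

/-- The bound on stem extensions. -/
theorem card_ker_le {Γ : Type*} [Group Γ] [Finite Γ] (σ : Γ →* H) (hσ : Cfsg.IsStemExtension σ) :
    Nat.card σ.ker ≤ 2 := by
  obtain ⟨hsur, hc, hcomm⟩ := hσ
  have hperf : commutator Γ = ⊤ := by
    have hH : commutator H = ⊤ := by
      rw [commutator_def, ← Subgroup.map_top_of_surjective ψ.toMonoidHom ψ.surjective,
        ← Subgroup.map_commutator, ← commutator_def, commutator_grp]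
    have h1 : (commutator Γ).map σ = ⊤ := by
      rw [commutator_def, Subgroup.map_commutator, Subgroup.map_top_of_surjective σ hsur, ← commutator_def, hH]
    have := congrArg (Subgroup.comap σ) h1
    rwa [Subgroup.comap_map_eq, Subgroup.comap_top, sup_eq_left.2 hcomm] at this
  let s' : Fin 7 → H := fun i => ψ (s i)
  have hbr : ∀ i j, CoxeterMatrix.E₇ i j = 3 → s' i * s' j * s' i = s' j * s' i * s' j := fun i j h => by
    simp only [s', ← map_mul, s_braid h]
  obtain ⟨t0, h0⟩ := hsur (s' 0)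
  obtain ⟨t2, h2, b2⟩ := exists_braid_lift hsur hc t0 (s := s' 2) (h0.symm ▸ hbr 0 2 (by decide))
  obtain ⟨t3, h3, b3⟩ := exists_braid_lift hsur hc t2 (s := s' 3) (h2.symm ▸ hbr 2 3 (by decide))
  obtain ⟨t1, h1, b1⟩ := exists_braid_lift hsur hc t3 (s := s' 1) (h3.symm ▸ hbr 3 1 (by decide))
  obtain ⟨t4, h4, b4⟩ := exists_braid_lift hsur hc t3 (s := s' 4) (h3.symm ▸ hbr 3 4 (by decide))
  obtain ⟨t5, h5, b5⟩ := exists_braid_lift hsur hc t4 (s := s' 5) (h4.symm ▸ hbr 4 5 (by decide))
  obtain ⟨t6, h6, b6⟩ := exists_braid_lift hsur hc t5 (s := s' 6) (h5.symm ▸ hbr 5 6 (by decide))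
  let t : Fin 7 → Γ := ![t0, t1, t2, t3, t4, t5, t6]
  have ht : ∀ i, σ (t i) = s' i := by
    intro i; fin_cases i <;> assumption
  have hzc : t0 * t0 ∈ Subgroup.center Γ := hc (by
    rw [MonoidHom.mem_ker, map_mul, h0]; simp only [s', ← map_mul, s_sq, map_one])
  have z2 := sq_of_braid hzc rfl b2
  have z3 := sq_of_braid hzc z2 b3
  have z1 := sq_of_braid hzc z3 b1
  have z4 := sq_of_braid hzc z3 b4
  have z5 := sq_of_braid hzc z4 b5
  have z6 := sq_of_braid hzc z5 b6
  have hz : ∀ i, t i * t i = t0 * t0 := by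
    intro i; fin_cases i
    exacts [rfl, z1, z2, z3, z4, z5, z6]
  have hedge : ∀ i j : Fin 7, CoxeterMatrix.E₇ i j = 3 → (j ≠ 0 ∧ par j = i) ∨ (i ≠ 0 ∧ par i = j) :=
    forall_pair (by decide +kernel)
  have hup : ∀ j : Fin 7, j ≠ 0 → t (par j) * t j * t (par j) = t j * t (par j) * t j := by
    intro j hj; fin_cases j
    exacts [absurd rfl hj, b1, b2, b3, b4, b5, b6]
  have hb : ∀ i j, CoxeterMatrix.E₇ i j = 3 → t i * t j * t i = t j * t i * t j := by
    intro i j h
    rcases hedge i j h with ⟨hj, rfl⟩ | ⟨hi, rfl⟩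
    · exact hup j hj
    · exact (hup i hi).symm
  obtain ⟨ε, hT, hε⟩ := exists_twisted hc (M := CoxeterMatrix.E₇) (t := t) (forall_pair (by decide +kernel)) hzc hz hb
    (fun i j h => by rw [Commute, SemiconjBy, ht, ht]; simp only [s', ← map_mul, s_comm h])
    (0, 1) [(0, 3), (1, 0), (2, 1), (0, 4), (3, 0), (1, 2), (0, 5), (2, 4), (4, 0), (0, 6), (2, 5), (5, 0), (4, 2), (2, 6), (6, 0), (3, 5), (5, 2), (3, 6), (6, 2), (1, 5), (5, 3), (1, 6), (4, 6), (6, 3), (1, 4), (5, 1), (6, 1), (6, 4), (4, 1)] (by decide) (by decide +kernel) (forall_pair (by decide +kernel))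
  have hW : Nat.card CoxeterMatrix.E₇.Group = 2903040 :=
    Cfsg.Agent.S1093.result (⟨7, CoxeterMatrix.E₇⟩, 2903040) (by simp)
  have : Finite CoxeterMatrix.E₇.Group := Nat.finite_of_card_ne_zero (by rw [hW]; norm_num)
  have hgen : Subgroup.closure (Set.range (σ ∘ t)) = ⊤ := by
    rw [show σ ∘ t = ψ.toMonoidHom ∘ s from funext ht, Set.range_comp, ← MonoidHom.map_closure, closure_s,
      Subgroup.map_top_of_surjective ψ.toMonoidHom ψ.surjective]
  obtain ⟨-, hle⟩ := card_le_of_perfect (by norm_num) hc hperf hT hε hgen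
  have hH : Nat.card H = 1451520 := by rw [← Nat.card_congr ψ.toEquiv, card_grp]
  rw [hW, Subgroup.card_eq_card_quotient_mul_card_subgroup σ.ker,
    Nat.card_congr (QuotientGroup.quotientKerEquivOfSurjective σ hsur).toEquiv, hH] at hle
  omega

/-- The Schur multiplier of every copy of `Sp₆(2)`. -/
theorem hasCyclicSchurMultiplier [Finite H] : Cfsg.HasCyclicSchurMultiplier H 2 := by
  let M := CoxeterMatrix.E₇
  let C := (CliffordAlgebra (cartanForm M))ˣ
  let t : Fin 7 → Grp × C := fun i => (s i, gen M i)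
  let ε : Grp × C := (1, -1)
  have hT : Twisted M t 1 ε :=
    twisted_pair (forall_pair (by decide +kernel)) s_sq (fun i j h => s_comm h) (fun i j h => s_braid h)
  have hε : ε * ε = 1 := Prod.ext (one_mul _) (by show (-1 : C) * -1 = 1; rw [neg_mul_neg, one_mul])
  have hεne : ε ≠ 1 := fun h => neg_one_ne_one M (congrArg Prod.snd h)
  have hord : orderOf ε = 2 := orderOf_eq_prime (by rw [pow_two, hε]) hεne
  have hperf : ⁅evenSpan t, evenSpan t⁆ = evenSpan t :=
    hT.evenSpan_perfect hε (forall_pair (by decide +kernel)) 0 par (by decide +kernel) (by decide +kernel)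
  have hW : Nat.card CoxeterMatrix.E₇.Group = 2903040 :=
    Cfsg.Agent.S1093.result (⟨7, CoxeterMatrix.E₇⟩, 2903040) (by simp)
  have : Finite CoxeterMatrix.E₇.Group := Nat.finite_of_card_ne_zero (by rw [hW]; norm_num)
  obtain ⟨hfin, hcard⟩ := hT.card_commutator_le (by norm_num)
    (isOfFinOrder_iff_pow_eq_one.2 ⟨2, two_pos, by rw [pow_two, hε]⟩)
  have hle : evenSpan t ≤ ⁅Subgroup.closure (Set.range t), Subgroup.closure (Set.range t)⁆ :=
    hperf.ge.trans (Subgroup.commutator_mono (evenSpan_le_closure t) (evenSpan_le_closure t))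
  have : Finite (evenSpan t) := Finite.of_injective _ (Subgroup.inclusion_injective hle)
  have hDcard : Nat.card (evenSpan t) ≤ 2903040 := by
    have h1 := Subgroup.card_le_of_le hle
    rw [hord, hW] at hcard
    omega
  let τ : evenSpan t →* H := ψ.toMonoidHom.comp ((MonoidHom.fst Grp C).comp (evenSpan t).subtype)
  have hsur : Function.Surjective τ := by
    refine ψ.surjective.comp ?_
    rw [← MonoidHom.range_eq_top, MonoidHom.range_comp, Subgroup.range_subtype, map_evenSpan, eq_top_iff,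
      ← commutator_grp]
    exact commutator_le_evenSpan 0 closure_s s_sq
  have hεmem : ε ∈ evenSpan t := hT.eps_mem_evenSpan (i := 0) (j := 1) (by decide)
  have hker : (⟨ε, hεmem⟩ : evenSpan t) ∈ τ.ker := by
    show ψ (1 : Grp) = 1
    exact map_one _
  have hk2 : Nat.card τ.ker = 2 := by
    have h1 : Nat.card τ.ker ≤ 2 := by
      have hH : Nat.card H = 1451520 := by rw [← Nat.card_congr ψ.toEquiv, card_grp]
      rw [Subgroup.card_eq_card_quotient_mul_card_subgroup τ.ker,
        Nat.card_congr (QuotientGroup.quotientKerEquivOfSurjective τ hsur).toEquiv, hH] at hDcard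
      omega
    have h2 : 1 < Nat.card τ.ker := by
      rw [Finite.one_lt_card_iff_nontrivial]
      exact ⟨⟨⟨_, hker⟩, 1, fun h => hεne (congrArg (fun x : τ.ker => x.1.1) h)⟩⟩
    omega
  have hstem : Cfsg.IsStemExtension τ := by
    refine ⟨hsur, ?_, ?_⟩
    · intro x hx
      rw [Subgroup.mem_center_iff]
      intro g
      have hall : ∀ y : τ.ker, y = 1 ∨ y = ⟨⟨ε, hεmem⟩, hker⟩ := by
        intro y
        obtain ⟨a, -, huniq⟩ := (Nat.card_eq_two_iff' (1 : τ.ker)).1 hk2
        by_cases hy : y = 1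
        · exact Or.inl hy
        · exact Or.inr ((huniq y hy).trans
            (huniq _ fun h => hεne (congrArg (fun x : τ.ker => x.1.1) h)).symm)
      rcases hall ⟨x, hx⟩ with h | h
      · rw [show x = 1 from congrArg Subtype.val h, mul_one, one_mul]
      · refine Subtype.ext ?_
        rw [show x = ⟨ε, hεmem⟩ from congrArg Subtype.val h]
        exact Subgroup.mem_center_iff.1 hT.eps_central g.1
    · intro x _
      have : (commutator (evenSpan t)).map (evenSpan t).subtype = evenSpan t := by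
        rw [Subgroup.map_subtype_commutator, hperf]
      obtain ⟨y, hy, e⟩ := this.ge x.2
      rwa [show y = x from Subtype.ext e] at hy
  exact hasSchurMultiplier_of_witness τ hstem
    (mulEquivOfPrimeCardEq (p := 2) hk2 (by simp))
    (fun Γ _ _ σ hσ => by
      rw [show Nat.card (Multiplicative (ZMod 2)) = 2 by simp]
      exact card_ker_le ψ σ hσ)

end CfsgLib.Schur.Cox.SpSix
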