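import Cfsg.Agent.Lib.Schur.Coxeter.OmegaData
import Cfsg.Agent.Lib.Schur.Coxeter.Witness
import Cfsg.Agent.Lib.Schur.Multiplier

/-!
# The Schur multiplier of `Ω⁺₈(2)`

In the Clifford cover of `W(E₈)` the products of eight pairwise orthogonal reflections give a second
central involution over `Ω⁺₈(2)`, besides the sign.
-/

set_option autoImplicit false

open scoped commutatorElement Matrix

namespace CfsgLib.Schur.Cox.OmegaEight

/-- the Coxeter matrix -/
local notation "M8" => CoxeterMatrix.E₈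

/-- the group holding the cover -/
abbrev Big : Type := Grp × (CliffordAlgebra (cartanForm CoxeterMatrix.E₈))ˣ

/-- the twisted generators -/
noncomputable def tb (i : Fin 8) : Big := (r i, gen CoxeterMatrix.E₈ i)

/-- the sign -/
noncomputable def eps : Big := ((1 : Grp), (-1 : (CliffordAlgebra (cartanForm CoxeterMatrix.E₈))ˣ))

theorem twisted_tb : Twisted CoxeterMatrix.E₈ tb 1 eps :=
  twisted_pair (forall_pair (by decide +kernel)) r_sq r_comm r_braid

theorem eps_mul_eps : eps * eps = 1 :=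
  Prod.ext (one_mul _) (by
    show (-1 : (CliffordAlgebra (cartanForm CoxeterMatrix.E₈))ˣ) * -1 = 1
    rw [neg_mul_neg, one_mul])

theorem eps_ne_one : eps ≠ 1 := fun h => neg_one_ne_one CoxeterMatrix.E₈ (congrArg Prod.snd h)

/-- vectors modulo three by ternary code -/
def vec3 (c : ℕ) : Fin 8 → ZMod 3 := fun k => ((c / 3 ^ k.val % 3 : ℕ) : ZMod 3)

/-- the polar form of the Cartan form -/
def pol (u v : Fin 8 → ZMod 3) : ZMod 3 :=
  u ⬝ᵥ (upper CoxeterMatrix.E₈ *ᵥ v) + v ⬝ᵥ (upper CoxeterMatrix.E₈ *ᵥ u)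

theorem polar_eq (u v : Fin 8 → ZMod 3) :
    QuadraticMap.polar (cartanForm CoxeterMatrix.E₈) u v = pol u v := by
  rw [cartanForm, LinearMap.BilinMap.polar_toQuadraticMap, Matrix.toBilin'_apply', Matrix.toBilin'_apply', pol]

/-- the Clifford component of an element -/
noncomputable abbrev cl (x : Big) : CliffordAlgebra (cartanForm CoxeterMatrix.E₈) :=
  ((x.2 : (CliffordAlgebra (cartanForm CoxeterMatrix.E₈))ˣ) : CliffordAlgebra (cartanForm CoxeterMatrix.E₈))

/-- `x` is an odd involution lying over the reflection `m` and the vector `c` -/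
structure Refl (x : Big) (m c : ℕ) : Prop where
  sq : x * x = 1
  odd : ∀ a, x * tb a ∈ evenSpan tb ∧ tb a * x ∈ evenSpan tb
  mat_eq : mat x.1 = refl8 m
  cl_eq : cl x = CliffordAlgebra.ι (cartanForm CoxeterMatrix.E₈) (vec3 c)

theorem refl_base (a : Fin 8) {c : ℕ} (hc : vec3 c = Pi.single a 1) : Refl (tb a) (base a) c where
  sq := twisted_tb.sq a
  odd b := ⟨mul_mem_evenSpan tb a b, mul_mem_evenSpan tb b a⟩
  mat_eq := rfl
  cl_eq := by rw [hc]; rfl

theorem Refl.conj {x : Big} {m c : ℕ} (h : Refl x m c) (i : Fin 8) {m' c' : ℕ}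
    (hm : mat (r i) * refl8 m * mat (r i) = refl8 m')
    (hc : pol (Pi.single i 1) (vec3 c) • Pi.single i 1 - vec3 c = vec3 c') :
    Refl (tb i * x * tb i) m' c' where
  sq := by
    rw [show tb i * x * tb i * (tb i * x * tb i) = tb i * x * (tb i * tb i) * x * tb i by group,
      twisted_tb.sq, mul_one, mul_assoc (tb i) x x, h.sq, mul_one, twisted_tb.sq]
  odd a := by
    constructor
    · rw [mul_assoc (tb i * x) (tb i) (tb a)]
      exact mul_mem (h.odd i).2 (mul_mem_evenSpan tb i a)
    · rw [show tb a * (tb i * x * tb i) = tb a * tb i * (x * tb i) by group]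
      exact mul_mem (mul_mem_evenSpan tb a i) (h.odd i).1
  mat_eq := by
    show mat (r i * x.1 * r i) = _
    rw [mat_mul, mat_mul, h.mat_eq, hm]
  cl_eq := by
    show vec CoxeterMatrix.E₈ i * cl x * vec CoxeterMatrix.E₈ i = _
    rw [h.cl_eq, vec, ← hc, map_sub, map_smul,
      eq_sub_of_add_eq (CliffordAlgebra.ι_mul_ι_add_swap (Q := cartanForm CoxeterMatrix.E₈)
        (Pi.single i 1) (vec3 c)),
      polar_eq, sub_mul, mul_assoc, ← Algebra.smul_def]
    rw [show CliffordAlgebra.ι (cartanForm CoxeterMatrix.E₈) (Pi.single i 1) *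
      CliffordAlgebra.ι (cartanForm CoxeterMatrix.E₈) (Pi.single i 1) = 1 from vec_sq CoxeterMatrix.E₈ i,
      mul_one]

/-- a path of conjugations with the codes it passes through -/
def pathOK : ℕ → ℕ → List (Fin 8 × ℕ × ℕ) → ℕ → ℕ → Bool
  | m, c, [], m', c' => m == m' && c == c'
  | m, c, (i, m₁, c₁) :: rest, m', c' =>
    decide (mat (r i) * refl8 m * mat (r i) = refl8 m₁) &&
      decide (pol (Pi.single i 1) (vec3 c) • Pi.single i 1 - vec3 c = vec3 c₁) && pathOK m₁ c₁ rest m' c'

theorem exists_refl_of_path : ∀ (L : List (Fin 8 × ℕ × ℕ)) (m c m' c' : ℕ) (x : Big), Refl x m c →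
    pathOK m c L m' c' = true → ∃ y, Refl y m' c'
  | [], m, c, m', c', x, h, hp => by
    simp only [pathOK, Bool.and_eq_true, beq_iff_eq] at hp
    exact ⟨x, hp.1 ▸ hp.2 ▸ h⟩
  | (i, m₁, c₁) :: rest, m, c, m', c', x, h, hp => by
    simp only [pathOK, Bool.and_eq_true, decide_eq_true_iff] at hp
    exact exists_refl_of_path rest m₁ c₁ m' c' _ (h.conj i hp.1.1 hp.1.2) hp.2

theorem vec3_single : ∀ a : Fin 8, vec3 (3 ^ a.val) = Pi.single a 1 := by decide +kernel

theorem path0_true : pathOK (base 1) (3 ^ 1) [] 34 3 = true := by decide +kernel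

theorem exists_refl0 : ∃ x, Refl x 34 3 :=
  exists_refl_of_path _ _ _ _ _ _ (refl_base 1 (vec3_single 1)) path0_true

theorem path1_true : pathOK (base 2) (3 ^ 2) [] 35 9 = true := by decide +kernel

theorem exists_refl1 : ∃ x, Refl x 35 9 :=
  exists_refl_of_path _ _ _ _ _ _ (refl_base 2 (vec3_single 2)) path1_true

theorem path2_true : pathOK (base 4) (3 ^ 4) [] 42 81 = true := by decide +kernel

theorem exists_refl2 : ∃ x, Refl x 42 81 :=
  exists_refl_of_path _ _ _ _ _ _ (refl_base 4 (vec3_single 4)) path2_true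

theorem path3_true : pathOK (base 6) (3 ^ 6) [] 76 729 = true := by decide +kernel

theorem exists_refl3 : ∃ x, Refl x 76 729 :=
  exists_refl_of_path _ _ _ _ _ _ (refl_base 6 (vec3_single 6)) path3_true

theorem path4_true : pathOK (base 1) (3 ^ 1) [(3, 100, 60), (2, 71, 39), (4, 109, 240), (3, 43, 147)] 43 147 = true := by decide +kernel

theorem exists_refl4 : ∃ x, Refl x 43 147 :=
  exists_refl_of_path _ _ _ _ _ _ (refl_base 1 (vec3_single 1)) path4_true

theorem path5_true : pathOK (base 1) (3 ^ 1) [(3, 100, 60), (2, 71, 39), (4, 109, 240), (3, 43, 147), (5, 163, 699), (4, 137, 471), (6, 197, 2076), (5, 77, 1443)] 77 1443 = true := by decide +kernel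

theorem exists_refl5 : ∃ x, Refl x 77 1443 :=
  exists_refl_of_path _ _ _ _ _ _ (refl_base 1 (vec3_single 1)) path5_true

theorem path6_true : pathOK (base 0) (3 ^ 0) [(2, 50, 20), (3, 116, 37), (1, 86, 80), (4, 124, 121), (3, 58, 215), (2, 25, 157), (5, 145, 692), (4, 187, 481), (3, 253, 584), (1, 223, 430), (6, 147, 2039), (5, 27, 1402), (4, 49, 1715), (3, 119, 1267), (2, 84, 1760), (0, 69, 1250)] 69 1250 = true := by decide +kernel

theorem exists_refl6 : ∃ x, Refl x 69 1250 :=
  exists_refl_of_path _ _ _ _ _ _ (refl_base 0 (vec3_single 0)) path6_true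

theorem path7_true : pathOK (base 0) (3 ^ 0) [(2, 50, 20), (3, 116, 37), (1, 86, 80), (4, 124, 121), (3, 58, 215), (2, 25, 157), (5, 145, 692), (4, 187, 481), (3, 253, 584), (1, 223, 430), (6, 147, 2039), (5, 27, 1402), (4, 49, 1715), (3, 119, 1267), (2, 84, 1760), (0, 69, 1250), (7, 99, 6133), (6, 47, 4166), (5, 167, 5161), (4, 141, 3761), (3, 203, 5296), (1, 233, 3782), (2, 202, 5311), (3, 140, 3737), (4, 166, 5203), (5, 46, 4061), (6, 98, 4960), (7, 68, 4790)] 68 4790 = true := by decide +kernel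

theorem exists_refl7 : ∃ x, Refl x 68 4790 :=
  exists_refl_of_path _ _ _ _ _ _ (refl_base 0 (vec3_single 0)) path7_true

theorem pol_orth : ∀ k l : Fin 8, k ≠ l → pol (vec3 (![3, 9, 81, 729, 147, 1443, 1250, 4790] k)) (vec3 (![3, 9, 81, 729, 147, 1443, 1250, 4790] l)) = 0 :=
  forall_pair (by decide +kernel)

theorem mm : ∀ k l : Fin 8, refl8 (![34, 35, 42, 76, 43, 77, 69, 68] k) * refl8 (![34, 35, 42, 76, 43, 77, 69, 68] l) =
    refl8 (![34, 35, 42, 76, 43, 77, 69, 68] l) * refl8 (![34, 35, 42, 76, 43, 77, 69, 68] k) :=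
  forall_pair (by decide +kernel)

theorem refl_prod : ((refl8 34 * refl8 35) * (refl8 42 * refl8 76)) * ((refl8 43 * refl8 77) * (refl8 69 * refl8 68)) = 1 := by decide +kernel

/-- moving a product of anticommuting elements -/
theorem mul_prod_of_anticomm {x : Big} : ∀ (L : List Big), (∀ y ∈ L, x * y = eps * (y * x)) →
    x * L.prod = eps ^ L.length * (L.prod * x)
  | [], _ => by simp
  | y :: L, h => by
    have hc := Subgroup.mem_center_iff.1 (pow_mem twisted_tb.eps_central L.length) y
    calc x * (y :: L).prod = x * y * L.prod := by rw [List.prod_cons, mul_assoc]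
      _ = eps * y * (x * L.prod) := by rw [h y (by simp)]; simp only [mul_assoc]
      _ = eps * (y * eps ^ L.length) * (L.prod * x) := by
        rw [mul_prod_of_anticomm L fun z hz => h z (by simp [hz])]; simp only [mul_assoc]
      _ = eps * (eps ^ L.length * y) * (L.prod * x) := by rw [hc]
      _ = _ := by rw [List.length_cons, pow_succ', List.prod_cons]; simp only [mul_assoc]

theorem prod_sq_of_anticomm : ∀ (L : List Big), (∀ y ∈ L, y * y = 1) →
    L.Pairwise (fun x y => x * y = eps * (y * x)) → L.prod * L.prod = eps ^ L.length.choose 2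
  | [], _, _ => by simp
  | x :: L, h, hp => by
    rw [List.pairwise_cons] at hp
    have e := mul_prod_of_anticomm L hp.1
    have hc := Subgroup.mem_center_iff.1 (pow_mem twisted_tb.eps_central L.length)
    calc (x :: L).prod * (x :: L).prod = x * L.prod * x * L.prod := by rw [List.prod_cons, ← mul_assoc]
      _ = eps ^ L.length * (L.prod * x * x * L.prod) := by rw [e]; simp only [mul_assoc]
      _ = eps ^ L.length * (L.prod * L.prod) := by rw [mul_assoc L.prod x x, h x (by simp), mul_one]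
      _ = eps ^ L.length * eps ^ L.length.choose 2 := by
        rw [prod_sq_of_anticomm L (fun y hy => h y (by simp [hy])) hp.2]
      _ = _ := by
        rw [← pow_add, List.length_cons, Nat.choose_succ_succ', Nat.choose_one_right]

/-- The second involution over the identity. -/
theorem exists_nu : ∃ ν : Big, ν ∈ evenSpan tb ∧ ν.1 = 1 ∧ ν * ν = 1 ∧ ν ≠ 1 ∧ ν ≠ eps := by
  obtain ⟨x0, h0⟩ := exists_refl0
  obtain ⟨x1, h1⟩ := exists_refl1
  obtain ⟨x2, h2⟩ := exists_refl2
  obtain ⟨x3, h3⟩ := exists_refl3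
  obtain ⟨x4, h4⟩ := exists_refl4
  obtain ⟨x5, h5⟩ := exists_refl5
  obtain ⟨x6, h6⟩ := exists_refl6
  obtain ⟨x7, h7⟩ := exists_refl7
  let X : Fin 8 → Big := ![x0, x1, x2, x3, x4, x5, x6, x7]
  let C : Fin 8 → ℕ := ![3, 9, 81, 729, 147, 1443, 1250, 4790]
  let Mm : Fin 8 → ℕ := ![34, 35, 42, 76, 43, 77, 69, 68]
  have hX : ∀ k, Refl (X k) (Mm k) (C k) := by intro k; fin_cases k <;> assumption
  have hanti : ∀ k l, k ≠ l → X k * X l = eps * (X l * X k) := by
    intro k l hkl
    have hm : ∀ a b : Fin 8, mat (X a * X b).1 = refl8 (Mm a) * refl8 (Mm b) := fun a b => by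
      show mat ((X a).1 * (X b).1) = _
      rw [mat_mul, (hX a).mat_eq, (hX b).mat_eq]
    refine Prod.ext (ext_mat ?_) (Units.ext ?_)
    · show mat (X k * X l).1 = mat (1 * (X l * X k).1)
      rw [one_mul, hm, hm]
      exact mm k l
    · show cl (X k) * cl (X l) = -1 * (cl (X l) * cl (X k))
      rw [(hX k).cl_eq, (hX l).cl_eq, neg_one_mul]
      exact eq_neg_of_add_eq_zero_left (by
        rw [CliffordAlgebra.ι_mul_ι_add_swap, polar_eq, pol_orth k l hkl, map_zero])
  refine ⟨(List.ofFn X).prod, ?_, ?_, ?_, ?_, ?_⟩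
  · have hpair : ∀ a b, X a * X b ∈ evenSpan tb := fun a b => by
      have := mul_mem ((hX a).odd 0).1 ((hX b).odd 0).2
      rwa [mul_assoc, ← mul_assoc (tb 0), twisted_tb.sq, one_mul] at this
    rw [show (List.ofFn X).prod = X 0 * X 1 * (X 2 * X 3) * (X 4 * X 5 * (X 6 * X 7)) by
      simp only [List.ofFn_succ, List.ofFn_zero, List.prod_cons, List.prod_nil, mul_one, mul_assoc]; rfl]
    exact mul_mem (mul_mem (hpair _ _) (hpair _ _)) (mul_mem (hpair _ _) (hpair _ _))
  · refine ext_mat ?_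
    rw [show (List.ofFn X).prod = X 0 * X 1 * (X 2 * X 3) * (X 4 * X 5 * (X 6 * X 7)) by
      simp only [List.ofFn_succ, List.ofFn_zero, List.prod_cons, List.prod_nil, mul_one, mul_assoc]; rfl]
    show mat (((X 0).1 * (X 1).1 * ((X 2).1 * (X 3).1)) * ((X 4).1 * (X 5).1 * ((X 6).1 * (X 7).1))) = 1
    simp only [mat_mul, (hX _).mat_eq]
    exact refl_prod
  · rw [prod_sq_of_anticomm]
    · rw [List.length_ofFn, show Nat.choose 8 2 = 2 * 14 by decide, pow_mul, pow_two, eps_mul_eps, one_pow]
    · intro y hy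
      obtain ⟨k, rfl⟩ := List.mem_ofFn.1 hy
      exact (hX k).sq
    · rw [List.pairwise_ofFn]
      exact fun i j hij => hanti i j hij.ne
  all_goals
    intro h
    have hcen : (List.ofFn X).prod ∈ Subgroup.center Big := by
      rw [h]
      first
        | exact one_mem _
        | exact twisted_tb.eps_central
    have h1 := Subgroup.mem_center_iff.1 hcen (X 0)
    rw [List.ofFn_succ, List.prod_cons] at h1
    have e := mul_prod_of_anticomm (x := X 0) (List.ofFn fun i => X (Fin.succ i)) (by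
      intro y hy
      obtain ⟨k, rfl⟩ := List.mem_ofFn.1 hy
      exact hanti 0 _ (Fin.succ_ne_zero k).symm)
    rw [List.length_ofFn, show eps ^ 7 = eps by
      rw [show (7 : ℕ) = 2 * 3 + 1 by norm_num, pow_succ, pow_mul, pow_two, eps_mul_eps, one_pow, one_mul]] at e
    refine eps_ne_one ((mul_eq_right (a := eps) (b := (List.ofFn fun i => X (Fin.succ i)).prod)).1 ?_)
    rw [← mul_assoc (X 0) (X 0), (hX 0).sq, one_mul] at h1
    rw [e, mul_assoc eps, mul_assoc (List.ofFn fun i => X (Fin.succ i)).prod, (hX 0).sq, mul_one] at h1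
    exact h1.symm

end CfsgLib.Schur.Cox.OmegaEight
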