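import Cfsg.Agent.Lib.Schur.Coxeter.OmegaCover
import Cfsg.Agent.Lib.Schur.Perfect

/-!
# The Schur multiplier of `Ω⁺₈(2)` is a four-group
-/

set_option autoImplicit false

open scoped commutatorElement

namespace CfsgLib.Schur.Cox.OmegaEight

universe u w

theorem hom_eq_one_of_perfect {D : Type u} [Group D] (hD : commutator D = ⊤) {Z : Subgroup D}
    (hZ : Z ≤ Subgroup.center D) {x : D} (h : ∀ g, g * x * g⁻¹ * x⁻¹ ∈ Z) : x ∈ Subgroup.center D := by
  let f : D →* Z :=
    { toFun := fun g => ⟨g * x * g⁻¹ * x⁻¹, h g⟩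
      map_one' := Subtype.ext (by simp)
      map_mul' := fun a b => Subtype.ext (by
        show a * b * x * (a * b)⁻¹ * x⁻¹ = a * x * a⁻¹ * x⁻¹ * (b * x * b⁻¹ * x⁻¹)
        have hb := Subgroup.mem_center_iff.1 (hZ (h b)) (a * x * a⁻¹ * x⁻¹)
        have hb' := Subgroup.mem_center_iff.1 (hZ (h b)) a
        rw [hb]
        calc a * b * x * (a * b)⁻¹ * x⁻¹ = a * (b * x * b⁻¹ * x⁻¹) * (x * a⁻¹ * x⁻¹) := by group
          _ = b * x * b⁻¹ * x⁻¹ * a * (x * a⁻¹ * x⁻¹) := by rw [hb']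
          _ = _ := by group) }
  have hf : commutator D ≤ f.ker := by
    rw [commutator_def, Subgroup.commutator_le]
    intro a _ b _
    rw [MonoidHom.mem_ker, map_commutatorElement, commutatorElement_eq_one_iff_mul_comm]
    exact Subtype.ext (Subgroup.mem_center_iff.1 (hZ (f b).2) _)
  rw [Subgroup.mem_center_iff]
  intro g
  have : f g = 1 := hf (hD ▸ Subgroup.mem_top g)
  have e : g * x * g⁻¹ * x⁻¹ = 1 := congrArg Subtype.val this
  calc g * x = g * x * g⁻¹ * x⁻¹ * (x * g) := by group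
    _ = x * g := by rw [e, one_mul]

/-- A stem extension of `Ω⁺₈(2)` witnessing a four-group. -/
theorem exists_cover :
    ∃ (D : Type) (_ : Group D) (_ : Finite D) (σ : D →* Om), Cfsg.IsStemExtension σ ∧
      Nonempty (σ.ker ≃* Multiplicative (ZMod 2 × ZMod 2)) := by
  obtain ⟨ν, hνmem, hν1, hνsq, hνne, hνne'⟩ := exists_nu
  have hperf : ⁅evenSpan tb, evenSpan tb⁆ = evenSpan tb :=
    twisted_tb.evenSpan_perfect eps_mul_eps (forall_pair (by decide +kernel)) 0
      ![0, 3, 0, 2, 3, 4, 5, 6] (by decide +kernel) (by decide +kernel)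
  obtain ⟨hW, hfW⟩ := EightBound.finite_coxeter
  obtain ⟨hfin, hcard⟩ := twisted_tb.card_commutator_le (by norm_num)
    (isOfFinOrder_iff_pow_eq_one.2 ⟨2, two_pos, by rw [pow_two, eps_mul_eps]⟩)
  have hle : evenSpan tb ≤ ⁅Subgroup.closure (Set.range tb), Subgroup.closure (Set.range tb)⁆ :=
    hperf.ge.trans (Subgroup.commutator_mono (evenSpan_le_closure tb) (evenSpan_le_closure tb))
  have hfD : Finite (evenSpan tb) := Finite.of_injective _ (Subgroup.inclusion_injective hle)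
  have hDcard : Nat.card (evenSpan tb) ≤ 696729600 := by
    have h1 := Subgroup.card_le_of_le hle
    have h2 : orderOf eps = 2 := orderOf_eq_prime (by rw [pow_two, eps_mul_eps]) eps_ne_one
    rw [h2, hW] at hcard
    omega
  have hDperf : commutator (evenSpan tb) = ⊤ := by
    apply Subgroup.map_injective (evenSpan tb).subtype_injective
    rw [Subgroup.map_subtype_commutator, hperf, ← MonoidHom.range_eq_map, Subgroup.range_subtype]
  have himg : (evenSpan tb).map (MonoidHom.fst Grp _) = Om := by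
    rw [map_evenSpan]
    refine le_antisymm ?_ (commutator_le_evenSpan 0 closure_r r_sq)
    rw [evenSpan, Subgroup.closure_le]
    rintro _ ⟨p, rfl⟩
    exact pair_mem p.1 p.2
  let σ : evenSpan tb →* Om :=
    ((MonoidHom.fst Grp _).comp (evenSpan tb).subtype).codRestrict Om fun x => himg ▸ ⟨x.1, x.2, rfl⟩
  have hsur : Function.Surjective σ := by
    rintro ⟨q, hq⟩
    obtain ⟨x, hx, rfl⟩ := himg.ge hq
    exact ⟨⟨x, hx⟩, rfl⟩
  have hεmem : eps ∈ evenSpan tb := twisted_tb.eps_mem_evenSpan (i := 0) (j := 1) (by decide)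
  have hle4 : Nat.card σ.ker ≤ 4 := by
    rw [Subgroup.card_eq_card_quotient_mul_card_subgroup σ.ker,
      Nat.card_congr (QuotientGroup.quotientKerEquivOfSurjective σ hsur).toEquiv, card_Om] at hDcard
    simp only [EightBound.cardQ] at hDcard
    omega
  let E' : σ.ker := ⟨⟨eps, hεmem⟩, Subtype.ext rfl⟩
  let N' : σ.ker := ⟨⟨ν, hνmem⟩, Subtype.ext hν1⟩
  have hval : ∀ {a b : σ.ker}, (a.1.1 : Big) = b.1.1 → a = b := fun h => Subtype.ext (Subtype.ext h)
  have hE2 : E' * E' = 1 := hval eps_mul_eps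
  have hN2 : N' * N' = 1 := hval hνsq
  have hE1 : E' ≠ 1 := fun h => eps_ne_one (congrArg (fun x : σ.ker => x.1.1) h)
  have hN1 : N' ≠ 1 := fun h => hνne (congrArg (fun x : σ.ker => x.1.1) h)
  have hNE : N' ≠ E' := fun h => hνne' (congrArg (fun x : σ.ker => x.1.1) h)
  have hne3 : E' * N' ≠ 1 ∧ E' * N' ≠ E' ∧ E' * N' ≠ N' := by
    refine ⟨fun h => hNE ?_, fun h => hN1 (mul_eq_left.1 h), fun h => hE1 (mul_eq_right.1 h)⟩
    have := congrArg (E' * ·) h
    simpa [← mul_assoc, hE2] using this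
  let g : Fin 4 → σ.ker := ![1, E', N', E' * N']
  have hginj : Function.Injective g := by
    intro a b h
    fin_cases a <;> fin_cases b <;>
      simp [g, Ne.symm hE1, Ne.symm hN1, Ne.symm hNE, hE1, hN1, hNE, hne3.1, hne3.2.1, hne3.2.2,
        Ne.symm hne3.1, Ne.symm hne3.2.1, Ne.symm hne3.2.2] at h ⊢
  have hcard4 : Nat.card σ.ker = 4 := by
    have := Nat.card_le_card_of_injective g hginj
    rw [Nat.card_fin] at this
    omega
  have hgsur : Function.Surjective g :=
    ((Nat.bijective_iff_injective_and_card g).2 ⟨hginj, by rw [Nat.card_fin, hcard4]⟩).2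
  have hEc : E'.1 ∈ Subgroup.center (evenSpan tb) := by
    rw [Subgroup.mem_center_iff]
    intro y
    exact Subtype.ext (Subgroup.mem_center_iff.1 twisted_tb.eps_central y.1)
  have hNc : N'.1 ∈ Subgroup.center (evenSpan tb) := by
    refine hom_eq_one_of_perfect hDperf (Z := Subgroup.zpowers E'.1) (Subgroup.zpowers_le.2 hEc) fun y => ?_
    have hmem : y * N'.1 * y⁻¹ ∈ σ.ker := (inferInstance : σ.ker.Normal).conj_mem _ N'.2 y
    obtain ⟨a, ha⟩ := hgsur ⟨_, hmem⟩
    have hval' : y * N'.1 * y⁻¹ = (g a).1 := (congrArg Subtype.val ha).symm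
    rw [hval']
    fin_cases a
    · exfalso
      refine hN1 (Subtype.ext ?_)
      have : y * N'.1 * y⁻¹ = 1 := hval'
      exact conj_eq_one_iff.1 this
    · exfalso
      have : y * N'.1 * y⁻¹ = E'.1 := hval'
      refine hNE (Subtype.ext ?_)
      calc N'.1 = y⁻¹ * (y * N'.1 * y⁻¹) * y := by group
        _ = y⁻¹ * E'.1 * y := by rw [this]
        _ = E'.1 := by rw [Subgroup.mem_center_iff.1 hEc y⁻¹, inv_mul_cancel_right]
    · simp [g]
    · simp [g, mul_assoc, Subgroup.mem_zpowers]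
  have hcomm : σ.ker ≤ Subgroup.center (evenSpan tb) := by
    intro x hx
    obtain ⟨a, ha⟩ := hgsur ⟨x, hx⟩
    rw [show x = (g a).1 from (congrArg Subtype.val ha).symm]
    fin_cases a
    exacts [one_mem _, hEc, hNc, mul_mem hEc hNc]
  have hexp : ∀ x : σ.ker, x ^ 2 = 1 := by
    intro x
    obtain ⟨a, rfl⟩ := hgsur x
    rw [pow_two]
    fin_cases a
    · exact one_mul 1
    · exact hE2
    · exact hN2
    · show E' * N' * (E' * N') = 1
      have hc : N' * E' = E' * N' := Subtype.ext (Subgroup.mem_center_iff.1 hEc N'.1)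
      rw [mul_assoc, ← mul_assoc N', hc, mul_assoc E' N' N', hN2, mul_one, hE2]
  have : Nontrivial σ.ker := ⟨⟨E', 1, hE1⟩⟩
  have : IsKleinFour σ.ker :=
    ⟨hcard4, (Monoid.exponent_eq_prime_iff Nat.prime_two).2 fun x hx => orderOf_eq_prime (hexp x) hx⟩
  refine ⟨evenSpan tb, inferInstance, hfD, σ, ⟨hsur, hcomm, by rw [hDperf]; exact le_top⟩,
    IsKleinFour.nonempty_mulEquiv⟩

variable {H : Type u} [Group H] (ψ : Om ≃* H)

include ψ

/-- The multiplier of every copy of `Ω⁺₈(2)`. -/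
theorem hasSchurMultiplier [Finite H] :
    Cfsg.HasSchurMultiplier H (Multiplicative (ZMod 2 × ZMod 2)) := by
  obtain ⟨D, iD, fD, σ, ⟨hs, hc, hk⟩, ⟨e⟩⟩ := exists_cover
  have hker : (ψ.toMonoidHom.comp σ).ker = σ.ker := by
    ext x
    exact ψ.map_eq_one_iff
  refine hasSchurMultiplier_of_witness (ψ.toMonoidHom.comp σ)
    ⟨ψ.surjective.comp hs, hker.le.trans hc, hker.le.trans hk⟩
    ((MulEquiv.subgroupCongr hker).trans e) fun Γ _ _ τ hτ => ?_
  have hker' : (ψ.symm.toMonoidHom.comp τ).ker = τ.ker := by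
    ext x
    exact ψ.symm.map_eq_one_iff
  obtain ⟨h1, h2, h3⟩ := hτ
  obtain ⟨π, hπ⟩ := exists_mult_surj_ker (ψ.symm.toMonoidHom.comp τ)
    ⟨ψ.symm.surjective.comp h1, hker'.le.trans h2, hker'.le.trans h3⟩
  rw [← hker', show Nat.card (Multiplicative (ZMod 2 × ZMod 2)) = 4 by simp]
  exact (Nat.card_le_card_of_surjective π hπ).trans (setup.card_mult_le commutator_Om)

end CfsgLib.Schur.Cox.OmegaEight
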